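import Groth.Agent.Lib.Helper8.SubLat1
import Mathlib.CategoryTheory.Abelian.Refinements
import Mathlib.CategoryTheory.Subobject.Limits
import Mathlib.CategoryTheory.Subobject.Lattice

/-!
# Images and inverse images of subobjects in an abelian category
-/

set_option autoImplicit false
universe v u

namespace Groth.Agent.Lib.Helper23.AR.SubCalc

open CategoryTheory CategoryTheory.Limits
open Groth.Agent.Lib.Helper8.SubLat1

variable {C : Type u} [Category.{v} C] [Abelian C]

/-- the image of a subobject under a morphism -/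
noncomputable def im {X Y : C} (f : X ⟶ Y) (S : Subobject X) : Subobject Y :=
  imageSubobject (S.arrow ≫ f)

/-- the inverse image of a subobject under a morphism -/
noncomputable abbrev pb {X Y : C} (f : X ⟶ Y) (T : Subobject Y) : Subobject X :=
  (Subobject.pullback f).obj T

lemma pb_factors_iff {X Y Z : C} (f : X ⟶ Y) (T : Subobject Y) (z : Z ⟶ X) :
    (pb f T).Factors z ↔ T.Factors (z ≫ f) := pullback_factors_iff f T z

lemma le_iff_factors {X : C} (S S' : Subobject X) :
    S ≤ S' ↔ ∀ {Z : C} (z : Z ⟶ X), S.Factors z → S'.Factors z :=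
  ⟨fun h _ z hz => Subobject.factors_of_le z h hz,
    fun h => Subobject.le_of_factors (h _ (Subobject.factors_self S))⟩

lemma im_factors_iff {X Y Z : C} (f : X ⟶ Y) (S : Subobject X) (z : Z ⟶ Y) :
    (im f S).Factors z ↔ ∃ (Z' : C) (π : Z' ⟶ Z) (_ : Epi π) (x : Z' ⟶ X),
      S.Factors x ∧ π ≫ z = x ≫ f := by
  constructor
  · intro h
    obtain ⟨Z', π, hπ, x', hx'⟩ := surjective_up_to_refinements_of_epi
      (factorThruImageSubobject (S.arrow ≫ f)) ((im f S).factorThru z h)
    refine ⟨Z', π, hπ, x' ≫ S.arrow, Subobject.factors_comp_arrow x', ?_⟩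
    have := congrArg (fun k => k ≫ (imageSubobject (S.arrow ≫ f)).arrow) hx'
    simp only [Category.assoc, imageSubobject_arrow_comp] at this
    rw [Category.assoc, ← this]
    congr 1
    exact (Subobject.factorThru_arrow _ _ h).symm
  · rintro ⟨Z', π, hπ, x, hx, hxz⟩
    apply factors_of_epi_comp π
    rw [hxz, ← Subobject.factorThru_arrow _ _ hx, Category.assoc]
    exact imageSubobject_factors_comp_self (f := S.arrow ≫ f) (S.factorThru x hx)

lemma pb_mono {X Y : C} (f : X ⟶ Y) {T T' : Subobject Y} (h : T ≤ T') : pb f T ≤ pb f T' :=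
  (Subobject.pullback f).monotone h

lemma im_le_iff {X Y : C} (f : X ⟶ Y) (S : Subobject X) (T : Subobject Y) :
    im f S ≤ T ↔ S ≤ pb f T := by
  constructor
  · intro h
    apply Subobject.le_of_factors
    rw [pb_factors_iff]
    apply Subobject.factors_of_le _ h
    have h' := imageSubobject_factors_comp_self (f := S.arrow ≫ f) (𝟙 _)
    rw [Category.id_comp] at h'
    exact h'
  · intro h
    rw [le_iff_factors]
    intro Z z hz
    obtain ⟨Z', π, hπ, x, hx, hxz⟩ := (im_factors_iff f S z).1 hz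
    apply factors_of_epi_comp π
    rw [hxz, ← pb_factors_iff]
    exact Subobject.factors_of_le _ h hx

lemma gc_im_pb {X Y : C} (f : X ⟶ Y) : GaloisConnection (im f) (pb f) :=
  fun S T => im_le_iff f S T

lemma im_mono {X Y : C} (f : X ⟶ Y) {S S' : Subobject X} (h : S ≤ S') : im f S ≤ im f S' :=
  (gc_im_pb f).monotone_l h

lemma im_sup {X Y : C} (f : X ⟶ Y) (S S' : Subobject X) :
    im f (S ⊔ S') = im f S ⊔ im f S' := (gc_im_pb f).l_sup

lemma pb_inf {X Y : C} (f : X ⟶ Y) (T T' : Subobject Y) :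
    pb f (T ⊓ T') = pb f T ⊓ pb f T' := (gc_im_pb f).u_inf

lemma pb_bot {X Y : C} (f : X ⟶ Y) : pb f ⊥ = kernelSubobject f := by
  apply le_antisymm
  · apply Subobject.le_of_factors
    rw [kernelSubobject_factors_iff]
    have h : (⊥ : Subobject Y).Factors ((pb f ⊥).arrow ≫ f) :=
      (pb_factors_iff f ⊥ _).1 (Subobject.factors_self _)
    rw [← Subobject.factorThru_arrow _ _ h, Subobject.bot_arrow, comp_zero]
  · apply Subobject.le_of_factors
    rw [pb_factors_iff, kernelSubobject_arrow_comp]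
    exact Subobject.factors_zero

lemma kernelSubobject_le_pb {X Y : C} (f : X ⟶ Y) (T : Subobject Y) :
    kernelSubobject f ≤ pb f T := by
  rw [← pb_bot]
  exact pb_mono f bot_le

lemma im_eq_bot_iff {X Y : C} (f : X ⟶ Y) (S : Subobject X) : im f S = ⊥ ↔ S.arrow ≫ f = 0 := by
  rw [eq_bot_iff, im_le_iff, pb_bot]
  constructor
  · intro h
    rw [← Subobject.ofLE_arrow h, Category.assoc, kernelSubobject_arrow_comp, comp_zero]
  · intro h
    apply Subobject.le_of_factors
    rw [kernelSubobject_factors_iff]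
    exact h

lemma pb_comp {X Y Z : C} (f : X ⟶ Y) (g : Y ⟶ Z) (T : Subobject Z) :
    pb (f ≫ g) T = pb f (pb g T) := Subobject.pullback_comp f g T

lemma im_comp {X Y Z : C} (f : X ⟶ Y) (g : Y ⟶ Z) (S : Subobject X) :
    im (f ≫ g) S = im g (im f S) := by
  apply le_antisymm
  · rw [im_le_iff, pb_comp, ← im_le_iff, ← im_le_iff]
  · rw [im_le_iff, im_le_iff, ← pb_comp, ← im_le_iff]

lemma pb_im {X Y : C} (f : X ⟶ Y) (S : Subobject X) :
    pb f (im f S) = S ⊔ kernelSubobject f := by
  apply le_antisymm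
  · rw [le_iff_factors]
    intro Z z hz
    rw [pb_factors_iff] at hz
    obtain ⟨Z', π, hπ, x, hx, hxz⟩ := (im_factors_iff f S _).1 hz
    apply factors_of_epi_comp π
    have e : π ≫ z = x + (π ≫ z - x) := by abel
    rw [e]
    apply Subobject.factors_add
    · exact Subobject.sup_factors_of_factors_left hx
    · apply Subobject.sup_factors_of_factors_right
      rw [kernelSubobject_factors_iff, Preadditive.sub_comp, Category.assoc, hxz, sub_self]
  · apply sup_le
    · rw [← im_le_iff]
    · exact kernelSubobject_le_pb f _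

lemma im_inf_pb {X Y : C} (f : X ⟶ Y) (S : Subobject X) (T : Subobject Y) :
    im f (S ⊓ pb f T) = im f S ⊓ T := by
  apply le_antisymm
  · apply le_inf
    · exact im_mono f inf_le_left
    · rw [im_le_iff]
      exact inf_le_right
  · rw [le_iff_factors]
    intro Z z hz
    rw [Subobject.inf_factors] at hz
    obtain ⟨Z', π, hπ, x, hx, hxz⟩ := (im_factors_iff f S z).1 hz.1
    rw [im_factors_iff]
    refine ⟨Z', π, hπ, x, ?_, hxz⟩
    rw [Subobject.inf_factors]
    refine ⟨hx, ?_⟩
    rw [pb_factors_iff, ← hxz]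
    exact Subobject.factors_of_factors_right π hz.2

lemma im_pb_of_epi {X Y : C} (f : X ⟶ Y) [Epi f] (T : Subobject Y) : im f (pb f T) = T := by
  apply le_antisymm
  · rw [im_le_iff]
  · rw [le_iff_factors]
    intro Z z hz
    obtain ⟨Z', π, hπ, x, hx⟩ := surjective_up_to_refinements_of_epi f z
    rw [im_factors_iff]
    refine ⟨Z', π, hπ, x, ?_, hx⟩
    rw [pb_factors_iff, ← hx]
    exact Subobject.factors_of_factors_right π hz

/-- a base change formula for a commutative square whose left vertical map is an epimorphism -/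
lemma pb_im_of_sq {X' X Y' Y : C} (f : X' ⟶ X) [Epi f] (u : X ⟶ Y) (u' : X' ⟶ Y') (f' : Y' ⟶ Y)
    (sq : u' ≫ f' = f ≫ u) (V : Subobject X) :
    pb f' (im u V) = im u' (pb f V) ⊔ kernelSubobject f' := by
  apply le_antisymm
  · rw [le_iff_factors]
    intro Z z hz
    rw [pb_factors_iff] at hz
    obtain ⟨Z₁, π₁, hπ₁, v, hv, hvz⟩ := (im_factors_iff u V _).1 hz
    obtain ⟨Z₂, π₂, hπ₂, x', hx'⟩ := surjective_up_to_refinements_of_epi f v
    haveI : Epi (π₂ ≫ π₁) := epi_comp _ _
    apply factors_of_epi_comp (π₂ ≫ π₁)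
    have e : (π₂ ≫ π₁) ≫ z = x' ≫ u' + ((π₂ ≫ π₁) ≫ z - x' ≫ u') := by abel
    rw [e]
    apply Subobject.factors_add
    · apply Subobject.sup_factors_of_factors_left
      rw [im_factors_iff]
      refine ⟨Z₂, 𝟙 _, inferInstance, x', ?_, by simp⟩
      rw [pb_factors_iff, ← hx']
      exact Subobject.factors_of_factors_right π₂ hv
    · apply Subobject.sup_factors_of_factors_right
      rw [kernelSubobject_factors_iff, Preadditive.sub_comp, Category.assoc, Category.assoc,
        Category.assoc, hvz, sq, ← Category.assoc, hx', Category.assoc, ← Category.assoc x',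
        sub_self]
  · apply sup_le
    · rw [im_le_iff, ← pb_comp, sq, pb_comp]
      apply pb_mono
      rw [← im_le_iff]
    · exact kernelSubobject_le_pb f' _


lemma imageSubobject_factors_iff {W Y Z : C} (g : W ⟶ Y) (z : Z ⟶ Y) :
    (imageSubobject g).Factors z ↔ ∃ (Z' : C) (π : Z' ⟶ Z) (_ : Epi π) (x : Z' ⟶ W),
      π ≫ z = x ≫ g := by
  constructor
  · intro h
    obtain ⟨Z', π, hπ, x, hx⟩ := surjective_up_to_refinements_of_epi
      (factorThruImageSubobject g) ((imageSubobject g).factorThru z h)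
    refine ⟨Z', π, hπ, x, ?_⟩
    have := congrArg (fun k => k ≫ (imageSubobject g).arrow) hx
    simp only [Category.assoc, imageSubobject_arrow_comp] at this
    rw [← this]
    congr 1
    exact (Subobject.factorThru_arrow _ _ h).symm
  · rintro ⟨Z', π, hπ, x, hx⟩
    apply factors_of_epi_comp π
    rw [hx]
    exact imageSubobject_factors_comp_self (f := g) x

lemma im_imageSubobject {W X Y : C} (f : X ⟶ Y) (g : W ⟶ X) :
    im f (imageSubobject g) = imageSubobject (g ≫ f) := by
  apply le_antisymm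
  · rw [le_iff_factors]
    intro Z z hz
    obtain ⟨Z₁, π₁, hπ₁, x, hx, hxz⟩ := (im_factors_iff f _ z).1 hz
    obtain ⟨Z₂, π₂, hπ₂, y, hy⟩ := (imageSubobject_factors_iff g x).1 hx
    rw [imageSubobject_factors_iff]
    exact ⟨Z₂, π₂ ≫ π₁, epi_comp _ _, y, by rw [Category.assoc, hxz, ← Category.assoc, hy,
      Category.assoc]⟩
  · rw [le_iff_factors]
    intro Z z hz
    obtain ⟨Z₁, π₁, hπ₁, y, hy⟩ := (imageSubobject_factors_iff (g ≫ f) z).1 hz
    rw [im_factors_iff]
    exact ⟨Z₁, π₁, hπ₁, y ≫ g, imageSubobject_factors_comp_self (f := g) y, by rw [hy, Category.assoc]⟩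

lemma imageSubobject_epi_comp {W' W Y : C} (e : W' ⟶ W) [Epi e] (g : W ⟶ Y) :
    imageSubobject (e ≫ g) = imageSubobject g := by
  apply le_antisymm (imageSubobject_comp_le e g)
  rw [le_iff_factors]
  intro Z z hz
  obtain ⟨Z₁, π₁, hπ₁, x, hx⟩ := (imageSubobject_factors_iff g z).1 hz
  obtain ⟨Z₂, π₂, hπ₂, y, hy⟩ := surjective_up_to_refinements_of_epi e x
  rw [imageSubobject_factors_iff]
  exact ⟨Z₂, π₂ ≫ π₁, epi_comp _ _, y, by rw [Category.assoc, hx, ← Category.assoc, hy,
    Category.assoc]⟩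

/-- if `g` is a monomorphism and `f ≫ g` has the same image as `g`, then `f` is an epimorphism -/
lemma epi_of_imageSubobject_eq {W' W Y : C} (f : W' ⟶ W) (g : W ⟶ Y) [Mono g]
    (h : imageSubobject (f ≫ g) = imageSubobject g) : Epi f := by
  rw [epi_iff_surjective_up_to_refinements]
  intro Z z
  have hz : (imageSubobject (f ≫ g)).Factors (z ≫ g) := by
    rw [h]
    exact imageSubobject_factors_comp_self (f := g) z
  obtain ⟨Z', π, hπ, x, hx⟩ := (imageSubobject_factors_iff (f ≫ g) (z ≫ g)).1 hz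
  refine ⟨Z', π, hπ, x, ?_⟩
  rw [← cancel_mono g, Category.assoc, hx, Category.assoc]

lemma pb_im_of_mono {X Y : C} (f : X ⟶ Y) [Mono f] (S : Subobject X) : pb f (im f S) = S := by
  rw [pb_im]
  have : kernelSubobject f = ⊥ := by
    rw [eq_bot_iff]
    apply Subobject.le_of_factors
    have h0 : (kernelSubobject f).arrow = 0 := by
      rw [← cancel_mono f, zero_comp, kernelSubobject_arrow_comp]
    rw [h0]
    exact Subobject.factors_zero
  rw [this, sup_bot_eq]

end Groth.Agent.Lib.Helper23.AR.SubCalc
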