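import Mathlib.CategoryTheory.Functor.OfSequence
import Mathlib.CategoryTheory.Abelian.Basic
import Mathlib.CategoryTheory.Abelian.FunctorCategory
import Mathlib.CategoryTheory.Preadditive.Injective.Basic
import Mathlib.CategoryTheory.Limits.FunctorCategory.EpiMono

/-!
# Enough injectives in the category of inverse systems indexed by `ℕ`
-/

set_option autoImplicit false
universe v u

namespace Groth.Agent.Lib.Helper23.AR.InjSys

open CategoryTheory CategoryTheory.Limits Opposite
open ZeroObject

variable {A : Type u} [Category.{v} A] [Abelian A]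

lemma mono_of_app {X Y : ℕᵒᵖ ⥤ A} (f : X ⟶ Y) (h : ∀ n : ℕ, Mono (f.app (op n))) : Mono f := by
  rw [NatTrans.mono_iff_mono_app]
  rintro ⟨n⟩
  exact h n

lemma mono_app {X Y : ℕᵒᵖ ⥤ A} (f : X ⟶ Y) [Mono f] (n : ℕ) : Mono (f.app (op n)) :=
  (NatTrans.mono_iff_mono_app f).mp inferInstance _

section Down

/-! ### from systems to the category -/

variable (M : A)

/-- components of the system `M ← 0 ← 0 ← ⋯` -/
noncomputable def lObj : ℕ → A
  | 0 => M
  | _ + 1 => 0

/-- transition maps of the system `M ← 0 ← 0 ← ⋯` -/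
noncomputable def lMap : ∀ n : ℕ, lObj M (n + 1) ⟶ lObj M n := fun _ => 0

/-- the system `M ← 0 ← 0 ← ⋯` -/
noncomputable def L : ℕᵒᵖ ⥤ A := Functor.ofOpSequence (lMap M)

lemma isZero_L_succ (n : ℕ) : IsZero ((L M).obj (op (n + 1))) := isZero_zero A

variable {M}

/-- components of the map of systems induced by a morphism -/
noncomputable def lHomApp {N : A} (f : M ⟶ N) : ∀ n : ℕ, (L M).obj (op n) ⟶ (L N).obj (op n)
  | 0 => f
  | _ + 1 => 0

/-- the map of systems induced by a morphism -/
noncomputable def lHom {N : A} (f : M ⟶ N) : L M ⟶ L N :=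
  NatTrans.ofOpSequence (lHomApp f) (fun n => (isZero_L_succ M n).eq_of_src _ _)

instance {N : A} (f : M ⟶ N) [Mono f] : Mono (lHom f) := by
  apply mono_of_app
  intro n
  cases n with
  | zero => exact inferInstanceAs (Mono f)
  | succ n => exact ⟨fun _ _ _ => (isZero_L_succ M n).eq_of_tgt _ _⟩

/-- components of the map of systems attached to a morphism to the zeroth component -/
noncomputable def lDescApp {I : ℕᵒᵖ ⥤ A} (g : M ⟶ I.obj (op 0)) :
    ∀ n : ℕ, (L M).obj (op n) ⟶ I.obj (op n)
  | 0 => g
  | _ + 1 => 0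

/-- the map of systems attached to a morphism to the zeroth component -/
noncomputable def lDesc {I : ℕᵒᵖ ⥤ A} (g : M ⟶ I.obj (op 0)) : L M ⟶ I :=
  NatTrans.ofOpSequence (lDescApp g) (fun n => (isZero_L_succ M n).eq_of_src _ _)

/-- the zeroth component of an injective system is injective -/
lemma injective_obj_zero (I : ℕᵒᵖ ⥤ A) [Injective I] : Injective (I.obj (op 0)) where
  factors {M N} g f _ := by
    obtain ⟨h, hh⟩ := Injective.factors (lDesc g) (lHom f)
    refine ⟨h.app (op 0), ?_⟩
    exact congrArg (fun φ => φ.app (op 0)) hh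

theorem enoughInjectives_of_functor (h : EnoughInjectives (ℕᵒᵖ ⥤ A)) : EnoughInjectives A where
  presentation X := by
    obtain ⟨P⟩ := h.presentation ((Functor.const ℕᵒᵖ).obj X)
    haveI := P.injective
    haveI := P.mono
    exact ⟨{ J := P.J.obj (op 0)
             injective := injective_obj_zero P.J
             f := P.f.app (op 0)
             mono := mono_app P.f 0 }⟩

end Down

section Up

/-! ### from the category to systems -/

variable (I : ℕ → A)

/-- the partial products `I_0 × ⋯ × I_n` -/
noncomputable def pObj : ℕ → A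
  | 0 => I 0
  | n + 1 => pObj n ⨯ I (n + 1)

/-- the projections between partial products -/
noncomputable def pMap : ∀ n : ℕ, pObj I (n + 1) ⟶ pObj I n := fun _ => prod.fst

/-- the system of partial products -/
noncomputable def P : ℕᵒᵖ ⥤ A := Functor.ofOpSequence (pMap I)

lemma P_map_succ (n : ℕ) :
    (P I).map (homOfLE (Nat.le_add_right n 1)).op =
      (prod.fst : pObj I n ⨯ I (n + 1) ⟶ pObj I n) :=
  Functor.ofOpSequence_map_homOfLE_succ _ n

variable {I}

/-- components of the map to the system of partial products -/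
noncomputable def jApp (X : ℕᵒᵖ ⥤ A) (i : ∀ n : ℕ, X.obj (op n) ⟶ I n) :
    ∀ n : ℕ, X.obj (op n) ⟶ pObj I n
  | 0 => i 0
  | n + 1 => prod.lift (X.map (homOfLE (Nat.le_add_right n 1)).op ≫ jApp X i n) (i (n + 1))

/-- the map to the system of partial products -/
noncomputable def j (X : ℕᵒᵖ ⥤ A) (i : ∀ n : ℕ, X.obj (op n) ⟶ I n) : X ⟶ P I :=
  NatTrans.ofOpSequence (jApp X i) (by
    intro n
    rw [P_map_succ]
    exact (prod.lift_fst _ _).symm)

lemma mono_j (X : ℕᵒᵖ ⥤ A) (i : ∀ n : ℕ, X.obj (op n) ⟶ I n) (hi : ∀ n, Mono (i n)) :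
    Mono (j X i) := by
  apply mono_of_app
  intro n
  cases n with
  | zero => exact hi 0
  | succ n =>
    haveI := hi (n + 1)
    have h : jApp X i (n + 1) ≫ (prod.snd : pObj I n ⨯ I (n + 1) ⟶ I (n + 1)) = i (n + 1) :=
      prod.lift_snd _ _
    exact mono_of_mono_fac h

variable [∀ n, Injective (I n)]

/-- components of an extension of a map to the system of partial products -/
noncomputable def extApp {X X' : ℕᵒᵖ ⥤ A} (u : X ⟶ X') [Mono u] (g : X ⟶ P I) :
    ∀ n : ℕ, X'.obj (op n) ⟶ pObj I n
  | 0 =>
    haveI := mono_app u 0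
    Injective.factorThru (J := I 0) (g.app (op 0)) (u.app (op 0))
  | n + 1 =>
    haveI := mono_app u (n + 1)
    prod.lift (X'.map (homOfLE (Nat.le_add_right n 1)).op ≫ extApp u g n)
      (Injective.factorThru (J := I (n + 1))
        (g.app (op (n + 1)) ≫ (prod.snd : pObj I n ⨯ I (n + 1) ⟶ I (n + 1)))
        (u.app (op (n + 1))))

lemma u_extApp {X X' : ℕᵒᵖ ⥤ A} (u : X ⟶ X') [Mono u] (g : X ⟶ P I) :
    ∀ n : ℕ, u.app (op n) ≫ extApp u g n = g.app (op n)
  | 0 => by
    haveI := mono_app u 0
    exact Injective.comp_factorThru (J := I 0) (g.app (op 0)) (u.app (op 0))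
  | n + 1 => by
    haveI := mono_app u (n + 1)
    have h1 := u.naturality (homOfLE (Nat.le_add_right n 1)).op
    have h2 := g.naturality (homOfLE (Nat.le_add_right n 1)).op
    rw [P_map_succ] at h2
    apply Limits.prod.hom_ext (X := pObj I n) (Y := I (n + 1))
    · change (u.app (op (n + 1)) ≫ prod.lift _ _) ≫ prod.fst = _
      rw [Category.assoc, prod.lift_fst, ← Category.assoc, ← h1, Category.assoc,
        u_extApp u g n]
      exact h2
    · change (u.app (op (n + 1)) ≫ prod.lift _ _) ≫ prod.snd = _
      rw [Category.assoc, prod.lift_snd]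
      exact Injective.comp_factorThru (J := I (n + 1)) _ _

/-- an extension of a map to the system of partial products -/
noncomputable def ext {X X' : ℕᵒᵖ ⥤ A} (u : X ⟶ X') [Mono u] (g : X ⟶ P I) : X' ⟶ P I :=
  NatTrans.ofOpSequence (extApp u g) (by
    intro n
    rw [P_map_succ]
    exact (prod.lift_fst _ _).symm)

instance injective_P : Injective (P I) where
  factors g u _ := ⟨ext u g, by
    ext ⟨n⟩
    exact u_extApp u g n⟩

theorem enoughInjectives_functor [EnoughInjectives A] : EnoughInjectives (ℕᵒᵖ ⥤ A) where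
  presentation X :=
    ⟨{ J := P (fun n => Injective.under (X.obj (op n)))
       injective := inferInstance
       f := j X (fun n => Injective.ι _)
       mono := mono_j X _ (fun n => inferInstance) }⟩

end Up

end Groth.Agent.Lib.Helper23.AR.InjSys
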